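import Mathlib.AlgebraicGeometry.Morphisms.Integral
import Mathlib.AlgebraicGeometry.AffineScheme
import Mathlib.RingTheory.Ideal.GoingUp
import Mathlib.Topology.Sheaves.Stalks

/-!
# Points of the fibre of an integral morphism and maximal ideals of the stalk of the direct image
-/

set_option autoImplicit false
set_option backward.isDefEq.respectTransparency false
set_option backward.isDefEq.respectTransparency.types false

universe u

open CategoryTheory AlgebraicGeometry TopologicalSpace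

noncomputable section

namespace Groth.L16.FiniteFibre

variable {Z X : Scheme.{u}} (g : Z ⟶ X)

/-- The stalk of the direct image of the structure sheaf. -/
abbrev A (x : X) : CommRingCat.{u} := (g.base _* Z.presheaf).stalk x

/-- The projection to the local ring at a point over `x`. -/
def π {x : X} (z : Z) (hz : g.base z = x) : A g x ⟶ Z.presheaf.stalk z :=
  ((g.base _* Z.presheaf).stalkCongr (Inseparable.of_eq hz)).inv ≫
    TopCat.Presheaf.stalkPushforward CommRingCat g.base Z.presheaf z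

theorem π_germ {x : X} (z : Z) (hz : g.base z = x) (V : X.Opens) (hx : x ∈ V) (c : Γ(Z, g ⁻¹ᵁ V)) :
    π g z hz ((g.base _* Z.presheaf).germ V x hx c) =
      Z.presheaf.germ (g ⁻¹ᵁ V) z (show g.base z ∈ V from hz.symm ▸ hx) c := by
  subst hz
  show TopCat.Presheaf.stalkPushforward CommRingCat g.base Z.presheaf z
    (((g.base _* Z.presheaf).stalkCongr (Inseparable.of_eq rfl)).inv ((g.base _* Z.presheaf).germ V _ hx c)) = _
  rw [TopCat.Presheaf.stalkCongr_inv, TopCat.Presheaf.germ_stalkSpecializes_apply]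
  exact TopCat.Presheaf.stalkPushforward_germ_apply CommRingCat g.base Z.presheaf V z hx c

theorem mem_comap_germ_iff {x : X} (z : Z) (hz : g.base z = x) (V : X.Opens) (hx : x ∈ V) (c : Γ(Z, g ⁻¹ᵁ V)) :
    (g.base _* Z.presheaf).germ V x hx c ∈ Ideal.comap (π g z hz).hom (IsLocalRing.maximalIdeal (Z.presheaf.stalk z)) ↔
      z ∉ Z.basicOpen c := by
  rw [Ideal.mem_comap, IsLocalRing.mem_maximalIdeal, mem_nonunits_iff]
  rw [Z.mem_basicOpen c z (show g.base z ∈ V from hz.symm ▸ hx), ← π_germ g z hz V hx c]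

/-- Points of an affine open are determined by the basic opens avoiding them. -/
theorem eq_of_basicOpen {Y : Scheme.{u}} {V : Y.Opens} (hV : IsAffineOpen V) {a b : Y} (ha : a ∈ V) (hb : b ∈ V)
    (h : ∀ c : Γ(Y, V), a ∈ Y.basicOpen c ↔ b ∈ Y.basicOpen c) : a = b := by
  by_contra hne
  have h1 : hV.primeIdealOf ⟨a, ha⟩ = hV.primeIdealOf ⟨b, hb⟩ := by
    ext c
    have ha' := hV.fromSpec_primeIdealOf ⟨a, ha⟩
    have hb' := hV.fromSpec_primeIdealOf ⟨b, hb⟩
    have key : ∀ p : Spec Γ(Y, V), hV.fromSpec p ∈ Y.basicOpen c ↔ c ∉ p.asIdeal := fun p => by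
      show p ∈ hV.fromSpec ⁻¹ᵁ Y.basicOpen c ↔ _
      rw [hV.fromSpec_preimage_basicOpen]
      rfl
    change hV.fromSpec _ = a at ha'
    change hV.fromSpec _ = b at hb'
    have h1 := key (hV.primeIdealOf ⟨a, ha⟩)
    have h2 := key (hV.primeIdealOf ⟨b, hb⟩)
    rw [ha'] at h1
    rw [hb'] at h2
    exact not_iff_not.1 (h1.symm.trans ((h c).trans h2))
  exact hne ((hV.fromSpec_primeIdealOf ⟨a, ha⟩).symm.trans
    ((congrArg hV.fromSpec h1).trans (hV.fromSpec_primeIdealOf ⟨b, hb⟩)))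

/-- The map from the local ring of the base. -/
def α (x : X) : X.presheaf.stalk x ⟶ A g x :=
  (TopCat.Presheaf.stalkFunctor CommRingCat x).map g.c

theorem α_germ {x : X} (V : X.Opens) (hx : x ∈ V) (r : Γ(X, V)) :
    α g x (X.presheaf.germ V x hx r) = (g.base _* Z.presheaf).germ V x hx (g.app V r) :=
  TopCat.Presheaf.stalkFunctor_map_germ_apply V x hx g.c r

variable [IsIntegralHom g]

theorem isIntegral_α (x : X) : (α g x).hom.IsIntegral := fun a => by
  obtain ⟨W, hW, t, rfl⟩ := TopCat.Presheaf.exists_germ_eq (F := g.base _* Z.presheaf) (x := x) a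
  obtain ⟨V, hV, hxV, hVW⟩ := exists_isAffineOpen_mem_and_subset (x := x) (U := W) hW
  obtain ⟨p, hp, he⟩ := IsIntegralHom.isIntegral_app g V hV ((g.base _* Z.presheaf).map (homOfLE hVW).op t)
  refine ⟨p.map (X.presheaf.germ V x hxV).hom, hp.map _, ?_⟩
  rw [Polynomial.eval₂_map, show (α g x).hom.comp (X.presheaf.germ V x hxV).hom =
    ((g.base _* Z.presheaf).germ V x hxV).hom.comp (g.app V).hom from RingHom.ext fun r => α_germ g V hxV r,
    ← TopCat.Presheaf.germ_res_apply (g.base _* Z.presheaf) (homOfLE hVW) x hxV t]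
  refine (Polynomial.hom_eval₂ p (g.app V).hom ((g.base _* Z.presheaf).germ V x hxV).hom _).symm.trans ?_
  exact (congrArg ((g.base _* Z.presheaf).germ V x hxV).hom he).trans (map_zero _)

theorem comap_α (x : X) (I : Ideal (A g x)) [I.IsMaximal] :
    I.comap (α g x).hom = IsLocalRing.maximalIdeal (X.presheaf.stalk x) :=
  IsLocalRing.eq_maximalIdeal (Ideal.isMaximal_comap_of_isIntegral_of_isMaximal' _ (isIntegral_α g x) I)

theorem isMaximal_comap_π {x : X} (z : Z) (hz : g.base z = x) :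
    (Ideal.comap (π g z hz).hom (IsLocalRing.maximalIdeal (Z.presheaf.stalk z))).IsMaximal := by
  refine Ideal.isMaximal_of_isIntegral_of_isMaximal_comap' (α g x).hom (isIntegral_α g x) _ ?_
  convert IsLocalRing.maximalIdeal.isMaximal (X.presheaf.stalk x) using 1
  ext r
  obtain ⟨V, hV, r, rfl⟩ := TopCat.Presheaf.exists_germ_eq (F := X.presheaf) (x := x) r
  rw [Ideal.mem_comap, show (α g x).hom (X.presheaf.germ V x hV r) = _ from α_germ g V hV r,
    mem_comap_germ_iff, IsLocalRing.mem_maximalIdeal, mem_nonunits_iff]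
  subst hz
  refine not_congr ?_
  rw [← Scheme.preimage_basicOpen]
  exact X.mem_basicOpen r (g.base z) hV

theorem exists_point {x : X} (I : Ideal (A g x)) [hI : I.IsMaximal] {V : X.Opens} (hV : IsAffineOpen V)
    (hx : x ∈ V) : ∃ z : Z, g.base z = x ∧
      ∀ c : Γ(Z, g ⁻¹ᵁ V), (g.base _* Z.presheaf).germ V x hx c ∈ I ↔ z ∉ Z.basicOpen c := by
  have hW : IsAffineOpen (g ⁻¹ᵁ V) := hV.preimage g
  let J : PrimeSpectrum Γ(Z, g ⁻¹ᵁ V) := ⟨I.comap ((g.base _* Z.presheaf).germ V x hx).hom, Ideal.IsPrime.comap _⟩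
  let p : Spec Γ(Z, g ⁻¹ᵁ V) := J
  have key : ∀ c : Γ(Z, g ⁻¹ᵁ V), (g.base _* Z.presheaf).germ V x hx c ∈ I ↔ hW.fromSpec p ∉ Z.basicOpen c := by
    intro c
    show _ ↔ p ∉ hW.fromSpec ⁻¹ᵁ Z.basicOpen c
    rw [hW.fromSpec_preimage_basicOpen]
    exact not_not.symm
  refine ⟨hW.fromSpec p, eq_of_basicOpen hV (hW.opensRange_fromSpec.le ⟨p, rfl⟩) hx fun r => ?_, key⟩
  rw [← not_iff_not]
  show hW.fromSpec p ∉ g ⁻¹ᵁ X.basicOpen r ↔ _
  rw [Scheme.preimage_basicOpen, ← key, ← α_germ, X.mem_basicOpen r x hx]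
  show X.presheaf.germ V x hx r ∈ I.comap (α g x).hom ↔ _
  rw [comap_α g x I, IsLocalRing.mem_maximalIdeal, mem_nonunits_iff]

theorem bijOn (x : X) : Set.BijOn
    (fun z : {z : Z // g.base z = x} => Ideal.comap (π g z.1 z.2).hom (IsLocalRing.maximalIdeal (Z.presheaf.stalk z.1)))
    Set.univ {I : Ideal (A g x) | I.IsMaximal} := by
  obtain ⟨V, hV, hxV, -⟩ := exists_isAffineOpen_mem_and_subset (x := x) (U := ⊤) trivial
  have hW : IsAffineOpen (g ⁻¹ᵁ V) := hV.preimage g
  refine ⟨fun z _ => isMaximal_comap_π g z.1 z.2, fun a _ b _ hab => ?_, fun I hI => ?_⟩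
  · refine Subtype.ext (eq_of_basicOpen hW (show g.base a.1 ∈ V from a.2.symm ▸ hxV)
      (show g.base b.1 ∈ V from b.2.symm ▸ hxV) fun c => not_iff_not.1 ?_)
    rw [← mem_comap_germ_iff g a.1 a.2 V hxV c, ← mem_comap_germ_iff g b.1 b.2 V hxV c]
    exact Iff.of_eq (congrArg ((g.base _* Z.presheaf).germ V x hxV c ∈ ·) hab)
  · haveI : I.IsMaximal := hI
    obtain ⟨z, hz, hzI⟩ := exists_point g I hV hxV
    refine ⟨⟨z, hz⟩, trivial, Ideal.ext fun a => ?_⟩
    obtain ⟨W, hxW, t, rfl⟩ := TopCat.Presheaf.exists_germ_eq (F := g.base _* Z.presheaf) (x := x) a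
    obtain ⟨V', hV', hxV', hle⟩ := exists_isAffineOpen_mem_and_subset (x := x) (U := W ⊓ V) ⟨hxW, hxV⟩
    obtain ⟨z', hz', hzI'⟩ := exists_point g I hV' hxV'
    obtain rfl : z' = z := eq_of_basicOpen hW (show g.base z' ∈ V from hz'.symm ▸ hxV)
      (show g.base z ∈ V from hz.symm ▸ hxV) fun c => not_iff_not.1 (by
        rw [← hzI c, ← TopCat.Presheaf.germ_res_apply (g.base _* Z.presheaf)
          (homOfLE (le_trans hle inf_le_right)) x hxV' c]
        rw [hzI']
        refine not_congr ?_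
        show _ ↔ z' ∈ Z.basicOpen (Z.presheaf.map _ c)
        rw [Scheme.basicOpen_res]
        exact ⟨fun h => ⟨show g.base z' ∈ V' from hz'.symm ▸ hxV', h⟩, fun h => h.2⟩)
    show (g.base _* Z.presheaf).germ W x hxW t ∈ Ideal.comap (π g z' hz).hom _ ↔ _
    rw [← TopCat.Presheaf.germ_res_apply (g.base _* Z.presheaf) (homOfLE (le_trans hle inf_le_left)) x hxV' t,
      mem_comap_germ_iff, ← hzI']

end Groth.L16.FiniteFibre
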